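import Mathlib
import Cfsg.Agent.SpGeom.Basic
import Cfsg.Agent.Symp.Basic
set_option autoImplicit false

/-!
Perfection of `Sp_2m`, primitivity on projective space, simplicity of `PSp_2m`.
-/

namespace CfsgLib.SpGeom

open Matrix MulAction
open scoped commutatorElement LinearAlgebra.Projectivization

variable {F : Type*} [Field F] {m : ℕ}

local notation "V" => (Fin m ⊕ Fin m → F)
local notation "Sp" => Matrix.symplecticGroup (Fin m) F
local notation "f" => Cfsg.sympForm m F
local notation "mat" A:max => ((A : Sp) : Matrix (Fin m ⊕ Fin m) (Fin m ⊕ Fin m) F)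

/-- `[A, U(S)] = U(A S Aᵀ - S)` for a Levi element and an upper unitriangular one. -/
theorem upper_mem_commutator (A : GL (Fin m) F) (S T : Matrix (Fin m) (Fin m) F) (hS : Sᵀ = S)
    (hT : Tᵀ = T)
    (h : (A : Matrix (Fin m) (Fin m) F) * S * (A : Matrix (Fin m) (Fin m) F)ᵀ = S + T) :
    (⟨_, CfsgLib.Symp.upperSym_mem T hT⟩ : Sp) ∈ commutator Sp := by
  set a := CfsgLib.WordLaw.toSp F m A with ha
  set u : Sp := ⟨_, CfsgLib.Symp.upperSym_mem S hS⟩
  set t : Sp := ⟨_, CfsgLib.Symp.upperSym_mem T hT⟩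
  have key : a * u = t * u * a := by
    refine Subtype.ext ?_
    simp only [a, u, t, CfsgLib.WordLaw.toSp, CfsgLib.WordLaw.hypMat, 
      Submonoid.coe_mul, Matrix.fromBlocks_multiply]
    have h2 : (A : Matrix (Fin m) (Fin m) F) * S =
        (S + T) * ((A⁻¹ : GL (Fin m) F) : Matrix (Fin m) (Fin m) F)ᵀ := by
      rw [← h, Matrix.mul_assoc, ← Matrix.transpose_mul, ← Units.val_mul, inv_mul_cancel,
        Units.val_one, Matrix.transpose_one, Matrix.mul_one]
    refine (Matrix.fromBlocks_multiply ..).trans (Eq.trans ?_ (Matrix.fromBlocks_multiply ..).symm)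
    simp [h2]
  have : t = ⁅a, u⁆ := by rw [commutatorElement_def, key, mul_inv_cancel_right, mul_inv_cancel_right]
  rw [this]
  exact Subgroup.commutator_mem_commutator (Subgroup.mem_top _) (Subgroup.mem_top _)

theorem tv_single_eq_upper (i : Fin m) (c : F) :
    tv (Pi.single (Sum.inl i) 1) c =
      (⟨_, CfsgLib.Symp.upperSym_mem (Matrix.single i i c) (Matrix.transpose_single i i c)⟩ : Sp) := by
  refine ext_mulVec fun x => ?_
  rw [tv_mulVec, form_single_inl_right]
  funext k
  rcases k with k | k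
  · simp [Matrix.fromBlocks_mulVec, Pi.single_apply, Matrix.single_mulVec_eq]
  · simp [Matrix.fromBlocks_mulVec]

/-- `1 + E_ij` in `GL`. -/
noncomputable def elemGL {i j : Fin m} (hij : i ≠ j) : GL (Fin m) F :=
  Matrix.GeneralLinearGroup.mkOfDetNeZero (Matrix.transvection i j 1)
    (by rw [Matrix.det_transvection_of_ne i j hij]; exact one_ne_zero)

theorem elemGL_coe {i j : Fin m} (hij : i ≠ j) :
    (elemGL (F := F) hij).val = 1 + Matrix.single i j 1 := rfl

theorem exists_pow_two_ne [Fintype F] (h : 4 ≤ Fintype.card F) : ∃ a : F, a ≠ 0 ∧ a ^ 2 ≠ 1 := by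
  classical
  obtain ⟨a, ha⟩ := Finset.exists_mem_notMem_of_card_lt_card
    (s := ({0, 1, -1} : Finset F)) (t := Finset.univ) (by
      rw [Finset.card_univ]
      exact lt_of_le_of_lt Finset.card_le_three (by omega))
  simp only [Finset.mem_univ, Finset.mem_insert, Finset.mem_singleton, true_and, not_or] at ha
  refine ⟨a, ha.1, fun h2 => ?_⟩
  rcases sq_eq_one_iff.1 h2 with h1 | h1
  · exact ha.2.1 h1
  · exact ha.2.2 h1

theorem two_ne_zero_of_card_three [Fintype F] (h : Fintype.card F = 3) : (2 : F) ≠ 0 := by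
  intro h2
  have : CharP F 2 := CharTwo.of_one_ne_zero_of_two_eq_zero one_ne_zero h2
  have := FiniteField.even_card_of_char_two (ringChar.eq F 2)
  omega

/-- Perfection outside the three exceptions. -/
theorem commutator_eq_top
    (h : 3 ≤ m ∨ (2 ≤ m ∧ (2 : F) ≠ 0) ∨ ∃ a : F, a ≠ 0 ∧ a ^ 2 ≠ 1) :
    commutator Sp = ⊤ := by
  rcases Nat.eq_zero_or_pos m with rfl | hm
  · exact Subsingleton.elim _ _
  refine eq_top_of_tv _ fun w c => ?_
  rcases eq_or_ne w 0 with rfl | hw
  · rw [show tv (0 : V) c = 1 from ext_mulVec fun x => by simp [tv_mulVec]]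
    exact one_mem _
  let i₀ : Fin m := ⟨0, hm⟩
  have he : (Pi.single (Sum.inl i₀) 1 : V) ≠ 0 := Pi.single_ne_zero_iff.2 one_ne_zero
  suffices H : tv (Pi.single (Sum.inl i₀) 1 : V) c ∈ commutator Sp by
    obtain ⟨A, hA⟩ := exists_mulVec_eq he hw
    rw [← hA, ← tv_conj]
    exact (Subgroup.commutator_normal _ _).conj_mem _ H A
  by_cases ha : ∃ a : F, a ≠ 0 ∧ a ^ 2 ≠ 1
  · obtain ⟨a, ha0, ha2⟩ := ha
    obtain ⟨A, hA⟩ := exists_mulVec_eq he (smul_ne_zero ha0 he)
    have e : tv (Pi.single (Sum.inl i₀) 1 : V) c =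
        ⁅A, tv (Pi.single (Sum.inl i₀) 1 : V) (c / (a ^ 2 - 1))⁆ := by
      rw [commutatorElement_def, tv_conj, hA, tv_smul, tv_inv, tv_mul]
      congr 1
      field_simp [sub_ne_zero_of_ne ha2]
      ring
    rw [e]
    exact Subgroup.commutator_mem_commutator (Subgroup.mem_top _) (Subgroup.mem_top _)
  rw [tv_single_eq_upper]
  rcases h with h3 | ⟨h2, hne⟩ | h
  · let j : Fin m := ⟨1, by omega⟩
    let k : Fin m := ⟨2, by omega⟩
    have hij : i₀ ≠ j := by simp [i₀, j]
    have hik : i₀ ≠ k := by simp [i₀, k]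
    have hjk : j ≠ k := by simp [j, k]
    have hT : (Matrix.single i₀ j c + Matrix.single j i₀ c)ᵀ =
        Matrix.single i₀ j c + Matrix.single j i₀ c := by
      simp [add_comm]
    have h1 : (⟨_, CfsgLib.Symp.upperSym_mem _ hT⟩ : Sp) ∈ commutator Sp := by
      refine upper_mem_commutator (elemGL hik) (Matrix.single j k c + Matrix.single k j c) _
        (by simp [add_comm]) hT ?_
      rw [elemGL_coe]
      simp [mul_add, add_mul, hjk, hjk.symm, Matrix.single_mul_single_of_ne]
      abel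
    have hT2 : (Matrix.single i₀ i₀ c + (Matrix.single i₀ j c + Matrix.single j i₀ c))ᵀ =
        Matrix.single i₀ i₀ c + (Matrix.single i₀ j c + Matrix.single j i₀ c) := by
      rw [Matrix.transpose_add, hT, Matrix.transpose_single]
    have h2 : (⟨_, CfsgLib.Symp.upperSym_mem _ hT2⟩ : Sp) ∈ commutator Sp := by
      refine upper_mem_commutator (elemGL hij) (Matrix.single j j c) _
        (by simp) hT2 ?_
      rw [elemGL_coe]
      simp [mul_add, add_mul]
      abel
    have e : (⟨_, CfsgLib.Symp.upperSym_mem (Matrix.single i₀ i₀ c)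
        (Matrix.transpose_single i₀ i₀ c)⟩ : Sp) * ⟨_, CfsgLib.Symp.upperSym_mem _ hT⟩ =
        ⟨_, CfsgLib.Symp.upperSym_mem _ hT2⟩ := by
      refine Subtype.ext ?_
      simp [Matrix.fromBlocks_multiply, add_comm]
    rw [eq_mul_inv_of_mul_eq e]
    exact mul_mem h2 (inv_mem h1)
  · let j : Fin m := ⟨1, by omega⟩
    have hij : i₀ ≠ j := by simp [i₀, j]
    obtain ⟨d, rfl⟩ : ∃ d, c = d + d := ⟨c / 2, by field_simp; ring⟩
    refine upper_mem_commutator (elemGL hij)
      (Matrix.single i₀ j d + Matrix.single j i₀ d) _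
      (by simp [add_comm]) (Matrix.transpose_single i₀ i₀ _) ?_
    rw [elemGL_coe]
    simp [mul_add, add_mul, hij, hij.symm, Matrix.single_mul_single_of_ne]
    rw [Matrix.single_add]
    abel
  · exact absurd h ha

/-- `Sp → SL`. -/
def toSL (m : ℕ) (F : Type*) [Field F] :
    Matrix.symplecticGroup (Fin m) F →* Matrix.SpecialLinearGroup (Fin m ⊕ Fin m) F :=
  MonoidHom.mk' (fun A => ⟨A.1, SymplecticGroup.det_eq_one A.2⟩) fun _ _ => rfl

/-- The action of `Sp` on projective space. -/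
noncomputable def spPerm (m : ℕ) (F : Type*) [Field F] :
    Matrix.symplecticGroup (Fin m) F →* Equiv.Perm (ℙ F (Fin m ⊕ Fin m → F)) :=
  (MulAction.toPermHom (Matrix.SpecialLinearGroup (Fin m ⊕ Fin m) F)
    (ℙ F (Fin m ⊕ Fin m → F))).comp (toSL m F)

theorem spPerm_mk (A : Sp) {v : V} (hv : v ≠ 0) :
    spPerm m F A (Projectivization.mk F v hv) =
      Projectivization.mk F (mat A *ᵥ v) (mulVec_ne_zero A hv) := rfl

theorem spPerm_ker (hm : 0 < m) : (spPerm m F).ker = Subgroup.center Sp := by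
  ext A
  rw [spPerm, ← MonoidHom.comap_ker, Projectivization.SL_mulAction_ker, Subgroup.mem_comap,
    Matrix.SpecialLinearGroup.mem_center_iff, CfsgLib.Symp.mem_center_iff hm]
  constructor
  · rintro ⟨r, -, hr⟩
    have hr' : mat A = Matrix.scalar (Fin m ⊕ Fin m) r := hr.symm
    have e := SymplecticGroup.mem_iff.1 A.2
    rw [hr', Matrix.scalar_apply, Matrix.diagonal_transpose] at e
    have := congrFun₂ e (.inr ⟨0, hm⟩) (.inl ⟨0, hm⟩)
    simp [Matrix.J] at this
    rcases mul_self_eq_one_iff.1 this with rfl | rfl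
    · left; rw [hr', map_one]
    · right; rw [hr', map_neg, map_one]
  · rintro (hA | hA)
    · exact ⟨1, one_pow _, by rw [map_one]; exact hA.symm⟩
    · refine ⟨-1, ?_, by rw [map_neg, map_one]; exact hA.symm⟩
      simp [Even.neg_one_pow (Even.add_self m)]

theorem exists_orthogonal_sep {u w : V} (hu : u ≠ 0)
    (hne : ∀ a : F, a • u ≠ w) : ∃ x, f u x = 0 ∧ f w x ≠ 0 := by
  obtain ⟨y, hy⟩ := exists_form_ne_zero hu
  by_contra hno
  push Not at hno
  refine hne (f w y / f u y) (ext_form fun x => ?_)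
  have := hno (x - (f u x / f u y) • y) (by
    rw [form_sub_right, form_smul_right, div_mul_cancel₀ _ hy, sub_self])
  rw [form_sub_right, form_smul_right] at this
  rw [form_smul_left]
  linear_combination (-1 : F) * this

/-- Any group realising `Sp` on projective space acts primitively. -/
theorem isPreprimitive_of (hm : 0 < m) {G : Type*} [Group G] [MulAction G (ℙ F V)]
    (hreal : ∀ A : Sp, ∃ g : G, ∀ p, g • p = spPerm m F A p) :
    IsPreprimitive G (ℙ F V) := by
  have hmove : ∀ (A : Sp) {u : V} (hu : u ≠ 0) {u' : V} (hu' : u' ≠ 0), mat A *ᵥ u = u' →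
      spPerm m F A (Projectivization.mk F u hu) = Projectivization.mk F u' hu' := by
    intro A u hu u' hu' h
    simp [spPerm_mk, h]
  have : IsPretransitive G (ℙ F V) := by
    refine ⟨fun p r => ?_⟩
    induction p using Projectivization.ind with | _ u hu =>
    induction r using Projectivization.ind with | _ w hw =>
    obtain ⟨A, hA⟩ := exists_mulVec_eq hu hw
    obtain ⟨g, hg⟩ := hreal A
    exact ⟨g, by rw [hg, hmove A hu hw hA]⟩
  refine ⟨fun {B} hB => ?_⟩
  rw [IsTrivialBlock]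
  refine or_iff_not_imp_left.2 fun hns => ?_
  obtain ⟨p, hp, r, hr, hpr⟩ := Set.not_subsingleton_iff.1 hns
  have hsmul : ∀ (A : Sp) {x y : ℙ F V}, x ∈ B → spPerm m F A x ∈ B → y ∈ B →
      spPerm m F A y ∈ B := by
    intro A x y hx hAx hy
    obtain ⟨g, hg⟩ := hreal A
    rcases isBlock_iff_smul_eq_or_disjoint.1 hB g with h | h
    · rw [← hg, ← h]; exact Set.smul_mem_smul_set hy
    · exact absurd (Set.disjoint_left.1 h (Set.smul_mem_smul_set hx) (by rw [hg]; exact hAx)) not_false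
  have hgrow : ∀ {u w z : V} (hu : u ≠ 0) (hw : w ≠ 0) (hz : z ≠ 0),
      Projectivization.mk F u hu ∈ B → Projectivization.mk F w hw ∈ B →
      f u w ≠ 0 → f u z ≠ 0 → Projectivization.mk F z hz ∈ B := by
    intro u w z hu hw hz huB hwB h1 h2
    obtain ⟨A, hAu, hAw⟩ := exists_mulVec_pair (u := u) (v := (f u w)⁻¹ • w) (u' := u)
      (v' := (f u z)⁻¹ • z) (by rw [form_smul_right, inv_mul_cancel₀ h1])
      (by rw [form_smul_right, inv_mul_cancel₀ h2])
    have e : spPerm m F A (Projectivization.mk F w hw) = Projectivization.mk F z hz := by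
      rw [spPerm_mk, Projectivization.mk_eq_mk_iff']
      refine ⟨f u w * (f u z)⁻¹, ?_⟩
      rw [Matrix.mulVec_smul] at hAw
      rw [← smul_smul, ← hAw, smul_smul, mul_inv_cancel₀ h1, one_smul]
    rw [← e]
    exact hsmul A huB (by rw [hmove A hu hu hAu]; exact huB) hwB
  obtain ⟨u, w, hu, hw, huB, hwB, huw⟩ : ∃ (u w : V) (hu : u ≠ 0) (hw : w ≠ 0),
      Projectivization.mk F u hu ∈ B ∧ Projectivization.mk F w hw ∈ B ∧ f u w ≠ 0 := by
    induction p using Projectivization.ind with | _ u hu =>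
    induction r using Projectivization.ind with | _ w hw =>
    by_cases h : f u w = 0
    · obtain ⟨x, hx1, hx2⟩ := exists_orthogonal_sep (w := w) hu fun a ha => hpr (by
        symm
        rw [Projectivization.mk_eq_mk_iff']
        exact ⟨a, ha⟩)
      refine ⟨w, mat (tv x 1) *ᵥ w, hw, mulVec_ne_zero _ hw, hr, ?_, ?_⟩
      · rw [← spPerm_mk _ hw]
        exact hsmul (tv x 1) hp (by rw [hmove _ hu hu (tv_fix x 1 hx1)]; exact hp) hr
      · rw [tv_mulVec, one_mul, form_add_right, form_self, zero_add, form_smul_right]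
        exact mul_ne_zero hx2 hx2
    · exact ⟨u, w, hu, hw, hp, hr, h⟩
  refine Set.eq_univ_of_forall fun q => ?_
  induction q using Projectivization.ind with | _ z hz =>
  obtain ⟨y, -, hy1, hy2⟩ := exists_common (nondeg_top (F := F) (m := m)) (u := u) (u' := z)
    Submodule.mem_top hu Submodule.mem_top hz
  have hy : y ≠ 0 := fun h => hy1 (by rw [h, form_zero_right])
  have hyB := hgrow hu hw hy huB hwB huw hy1
  exact hgrow hy hu hz hyB huB (by rw [form_skew, neg_ne_zero]; exact hy1)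
    (by rw [form_skew, neg_ne_zero]; exact hy2)

/-- The transvection subgroup of a vector. -/
def tsub (v : V) : Subgroup Sp where
  carrier := {A | ∃ c : F, A = tv v c}
  one_mem' := ⟨0, (tv_zero v).symm⟩
  mul_mem' := by
    rintro _ _ ⟨c, rfl⟩ ⟨d, rfl⟩
    exact ⟨c + d, tv_mul v c d⟩
  inv_mem' := by
    rintro _ ⟨c, rfl⟩
    exact ⟨-c, tv_inv v c⟩

theorem tsub_smul_vec {a : F} (ha : a ≠ 0) (v : V) : tsub (a • v) = tsub v := by
  ext A
  constructor
  · rintro ⟨c, rfl⟩
    exact ⟨a ^ 2 * c, tv_smul a v c⟩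
  · rintro ⟨c, rfl⟩
    exact ⟨c / a ^ 2, by rw [tv_smul, mul_div_cancel₀ _ (pow_ne_zero 2 ha)]⟩

instance (v : V) : IsMulCommutative (tsub v) :=
  ⟨⟨fun ⟨_, c, hc⟩ ⟨_, d, hd⟩ => Subtype.ext (by subst hc hd; simp [tv_mul, add_comm])⟩⟩

open scoped Pointwise in
theorem tsub_conj (A : Sp) (v : V) : tsub (mat A *ᵥ v) = MulAut.conj A • tsub v := by
  ext B
  rw [Subgroup.mem_pointwise_smul_iff_inv_smul_mem]
  simp only [MulAut.smul_def, MulAut.inv_apply, MulAut.conj_symm_apply]
  constructor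
  · rintro ⟨c, rfl⟩
    exact ⟨c, by rw [← tv_conj]; group⟩
  · rintro ⟨c, hc⟩
    exact ⟨c, by rw [← tv_conj, ← hc]; group⟩

open scoped Pointwise in
/-- `PSp` is simple once `Sp` is perfect. -/
theorem isSimpleGroup_PSp (hm : 0 < m)
    (h : 3 ≤ m ∨ (2 ≤ m ∧ (2 : F) ≠ 0) ∨ ∃ a : F, a ≠ 0 ∧ a ^ 2 ≠ 1) :
    IsSimpleGroup (Cfsg.PSp m F) := by
  let Z := Subgroup.center Sp
  let ρ : Cfsg.PSp m F →* Equiv.Perm (ℙ F V) :=
    QuotientGroup.lift Z (spPerm m F) (le_of_eq (spPerm_ker hm).symm)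
  let act : MulAction (Cfsg.PSp m F) (ℙ F V) := MulAction.compHom _ ρ
  have hact : ∀ (A : Sp) (p : ℙ F V), (QuotientGroup.mk A : Cfsg.PSp m F) • p = spPerm m F A p :=
    fun A p => rfl
  have : IsPreprimitive (Cfsg.PSp m F) (ℙ F V) :=
    isPreprimitive_of hm fun A => ⟨QuotientGroup.mk A, hact A⟩
  have hfaith : FaithfulSMul (Cfsg.PSp m F) (ℙ F V) := by
    refine faithfulSMul_iff.2 fun g hg => ?_
    obtain ⟨A, rfl⟩ := QuotientGroup.mk_surjective g
    refine (QuotientGroup.eq_one_iff A).2 ?_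
    rw [← spPerm_ker hm]
    exact Equiv.ext fun p => hg p
  let i₀ : Fin m := ⟨0, hm⟩
  have he : (Pi.single (Sum.inl i₀) 1 : V) ≠ 0 := Pi.single_ne_zero_iff.2 one_ne_zero
  have : Nontrivial (Cfsg.PSp m F) := by
    refine ⟨⟨QuotientGroup.mk (tv (Pi.single (Sum.inl i₀) 1 : V) 1), 1, fun hh => ?_⟩⟩
    rw [QuotientGroup.eq_one_iff, CfsgLib.Symp.mem_center_iff hm] at hh
    have e1 := tv_mulVec (Pi.single (Sum.inl i₀) 1 : V) (1 : F) (Pi.single (Sum.inr i₀) 1)
    rcases hh with hh | hh <;> rw [hh, form_single_inl_right] at e1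
    · simpa [Matrix.mulVec_single_one] using congrFun e1 (Sum.inl i₀)
    · simpa [Matrix.neg_mulVec] using congrFun e1 (Sum.inl i₀)
  have hperf : commutator (Cfsg.PSp m F) = ⊤ := by
    have h1 : Subgroup.map (QuotientGroup.mk' Z) ⊤ = (⊤ : Subgroup (Cfsg.PSp m F)) :=
      Subgroup.map_top_of_surjective _ (QuotientGroup.mk'_surjective _)
    have h2 := Subgroup.map_commutator (⊤ : Subgroup Sp) ⊤ (QuotientGroup.mk' Z)
    rw [← commutator_def, commutator_eq_top h, h1] at h2
    exact h2.symm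
  refine IwasawaStructure.isSimpleGroup hperf (?_ : IwasawaStructure (Cfsg.PSp m F) (ℙ F V)) hfaith
  refine
    { T := fun p => (tsub p.rep).map (QuotientGroup.mk' Z)
      is_comm := fun p => Subgroup.map_isMulCommutative _ _
      is_conj := ?_
      is_generator := ?_ }
  · intro g p
    obtain ⟨A, rfl⟩ := QuotientGroup.mk_surjective g
    have e : (QuotientGroup.mk A : Cfsg.PSp m F) • p =
        Projectivization.mk F (mat A *ᵥ p.rep) (mulVec_ne_zero A p.rep_nonzero) := by
      conv_lhs => rw [← Projectivization.mk_rep p]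
      rw [hact, spPerm_mk]
    obtain ⟨a, ha⟩ := Projectivization.exists_smul_eq_mk_rep F (mat A *ᵥ p.rep)
      (mulVec_ne_zero A p.rep_nonzero)
    change (tsub _).map _ = _
    rw [e, ← ha, Units.smul_def, tsub_smul_vec a.ne_zero, tsub_conj]
    ext x
    simp only [Subgroup.mem_map, Subgroup.mem_pointwise_smul_iff_inv_smul_mem,
      MulAut.smul_def, MulAut.inv_apply, MulAut.conj_symm_apply, QuotientGroup.mk'_apply]
    exact ⟨fun ⟨b, hb, hb'⟩ => ⟨A⁻¹ * b * A, hb, by rw [← hb']; rfl⟩,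
      fun ⟨b, hb, hx⟩ => ⟨A * b * A⁻¹, by simp [mul_assoc, hb], by
        change QuotientGroup.mk' Z (A * b * A⁻¹) = x
        rw [map_mul, map_mul, map_inv, show QuotientGroup.mk' Z b = _ from hx]
        change (QuotientGroup.mk' Z A) * ((QuotientGroup.mk' Z A)⁻¹ * x * QuotientGroup.mk' Z A) * _ = x
        group⟩⟩
  · rw [eq_top_iff]
    have h1 : Subgroup.comap (QuotientGroup.mk' Z)
        (⨆ p : ℙ F V, (tsub p.rep).map (QuotientGroup.mk' Z)) = ⊤ := by
      refine eq_top_of_tv _ fun w c => ?_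
      rcases eq_or_ne w 0 with rfl | hw
      · rw [show tv (0 : V) c = 1 from ext_mulVec fun x => by simp [tv_mulVec]]
        exact one_mem _
      refine Subgroup.mem_iSup_of_mem (Projectivization.mk F w hw) (Subgroup.mem_map_of_mem _ ?_)
      obtain ⟨a, ha⟩ := Projectivization.exists_smul_eq_mk_rep F w hw
      rw [← ha, Units.smul_def, tsub_smul_vec a.ne_zero]
      exact ⟨c, rfl⟩
    intro x _
    obtain ⟨A, rfl⟩ := QuotientGroup.mk_surjective x
    have : A ∈ Subgroup.comap (QuotientGroup.mk' Z)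
        (⨆ p : ℙ F V, (tsub p.rep).map (QuotientGroup.mk' Z)) := by rw [h1]; trivial
    exact this

end CfsgLib.SpGeom
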