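import Mathlib
import Cfsg.Agent.SpGeom.Basic
import Cfsg.Agent.Symp.Basic
set_option autoImplicit false

/-!
The order of `Sp_2m(q)`, by counting hyperbolic pairs.
-/

namespace CfsgLib.SpGeom

open Matrix

variable {F : Type*} [Field F] [Fintype F]

/-- Number of solutions of a non-zero linear equation. -/
theorem card_linear_fibre {W : Type*} [AddCommGroup W] [Module F W] [Finite W]
    (φ : W →ₗ[F] F) (hφ : φ ≠ 0) (c : F) :
    Nat.card {x : W // φ x = c} * Fintype.card F = Nat.card W := by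
  obtain ⟨x₀, hx₀⟩ := LinearMap.surjective hφ c
  have h1 : Nat.card {x : W // φ x = c} = Nat.card φ.toAddMonoidHom.ker := by
    refine Nat.card_congr ((Equiv.subRight x₀).subtypeEquiv fun x => ?_)
    simp [AddMonoidHom.mem_ker, hx₀, sub_eq_zero]
  have h2 : φ.toAddMonoidHom.ker.index = Fintype.card F := by
    rw [AddSubgroup.index_ker, AddMonoidHom.range_eq_top.2 (LinearMap.surjective hφ),
      AddSubgroup.card_top, Nat.card_eq_fintype_card]
  rw [h1, ← h2]
  exact AddSubgroup.card_mul_index _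

theorem card_pairs (n : ℕ) :
    Nat.card {p : (Fin (n + 1) ⊕ Fin (n + 1) → F) × (Fin (n + 1) ⊕ Fin (n + 1) → F) //
      Cfsg.sympForm (n + 1) F p.1 p.2 = 1} =
      (Fintype.card F ^ (2 * (n + 1)) - 1) * Fintype.card F ^ (2 * n + 1) := by
  classical
  have hV : Nat.card (Fin (n + 1) ⊕ Fin (n + 1) → F) = Fintype.card F ^ (2 * (n + 1)) := by
    rw [Nat.card_fun, Nat.card_eq_fintype_card (α := F), Nat.card_sum, Nat.card_fin, two_mul]
  let φ : (Fin (n + 1) ⊕ Fin (n + 1) → F) → ((Fin (n + 1) ⊕ Fin (n + 1) → F) →ₗ[F] F) := fun u =>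
    { toFun := fun v => Cfsg.sympForm (n + 1) F u v
      map_add' := fun a b => form_add_right u a b
      map_smul' := fun a b => form_smul_right a u b }
  have hfib : ∀ u : Fin (n + 1) ⊕ Fin (n + 1) → F,
      Nat.card {v // Cfsg.sympForm (n + 1) F u v = 1} =
        if u = 0 then 0 else Fintype.card F ^ (2 * n + 1) := by
    intro u
    split_ifs with hu
    · subst hu
      have : IsEmpty {v : Fin (n + 1) ⊕ Fin (n + 1) → F // Cfsg.sympForm (n + 1) F 0 v = 1} :=
        ⟨fun v => zero_ne_one (α := F) (by rw [← form_zero_left v.1]; exact v.2)⟩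
      exact Nat.card_of_isEmpty
    · have hne : φ u ≠ 0 := fun h => by
        obtain ⟨w, hw⟩ := exists_form_ne_zero hu
        exact hw (LinearMap.congr_fun h w)
      have h := card_linear_fibre (φ u) hne 1
      rw [hV, show 2 * (n + 1) = 2 * n + 1 + 1 by ring, pow_succ] at h
      exact Nat.eq_of_mul_eq_mul_right Fintype.card_pos h
  rw [Nat.card_congr (Equiv.subtypeProdEquivSigmaSubtype
    (fun u v : Fin (n + 1) ⊕ Fin (n + 1) → F => Cfsg.sympForm (n + 1) F u v = 1)), Nat.card_sigma,
    Finset.sum_congr rfl (fun u _ => hfib u), Finset.sum_ite, Finset.sum_const_zero, zero_add,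
    Finset.sum_const, smul_eq_mul, Finset.filter_ne' Finset.univ 0,
    Finset.card_erase_of_mem (Finset.mem_univ _), Finset.card_univ, ← Nat.card_eq_fintype_card, hV]

theorem card_step (n : ℕ) :
    Nat.card (Matrix.symplecticGroup (Fin (n + 1)) F) =
      (Fintype.card F ^ (2 * (n + 1)) - 1) * Fintype.card F ^ (2 * n + 1) *
        Nat.card (Matrix.symplecticGroup (Fin n) F) := by
  classical
  set G := Matrix.symplecticGroup (Fin (n + 1)) F
  let hb : 1 + n = n + 1 := Nat.add_comm 1 n
  set σ := CfsgLib.Symp.blockEquiv hb with hσ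
  set e : Fin (n + 1) ⊕ Fin (n + 1) → F := Pi.single (σ (.inl (.inr 0))) 1 with he
  set e' : Fin (n + 1) ⊕ Fin (n + 1) → F := Pi.single (σ (.inl (.inl 0))) 1 with he'
  have hσr : σ (.inl (.inr 0)) = .inr 0 := by simp [hσ, CfsgLib.Symp.blockEquiv, Fin.ext_iff]
  have hσl : σ (.inl (.inl 0)) = .inl 0 := by simp [hσ, CfsgLib.Symp.blockEquiv, Fin.ext_iff]
  have hee : Cfsg.sympForm (n + 1) F e e' = 1 := by
    rw [he', hσl, form_single_inl_right, he, hσr]; simp
  let P := {p : (Fin (n + 1) ⊕ Fin (n + 1) → F) × (Fin (n + 1) ⊕ Fin (n + 1) → F) //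
    Cfsg.sympForm (n + 1) F p.1 p.2 = 1}
  let S := {g : G // g.1 *ᵥ e = e ∧ g.1 *ᵥ e' = e'}
  choose sec hsec using fun p : P => exists_mulVec_pair (u := e) (v := e') hee p.2
  let img : G → P := fun g => ⟨(g.1 *ᵥ e, g.1 *ᵥ e'), by
    rw [form_mulVec g e e', hee]⟩
  have hS : ∀ g : G, ((sec (img g))⁻¹ * g).1 *ᵥ e = e ∧ ((sec (img g))⁻¹ * g).1 *ᵥ e' = e' := fun g => by
    obtain ⟨h1, h2⟩ := hsec (img g)
    constructor
    · rw [coe_mul', ← Matrix.mulVec_mulVec]
      conv_lhs => rw [show g.1 *ᵥ e = (sec (img g)).1 *ᵥ e from h1.symm]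
      exact inv_mulVec _ _
    · rw [coe_mul', ← Matrix.mulVec_mulVec]
      conv_lhs => rw [show g.1 *ᵥ e' = (sec (img g)).1 *ᵥ e' from h2.symm]
      exact inv_mulVec _ _
  have himg : ∀ (p : P) (s : S), img (sec p * s.1) = p := fun p s => by
    refine Subtype.ext (Prod.ext ?_ ?_)
    · change (sec p * s.1).1 *ᵥ e = _
      rw [coe_mul', ← Matrix.mulVec_mulVec, s.2.1, (hsec p).1]
    · change (sec p * s.1).1 *ᵥ e' = _
      rw [coe_mul', ← Matrix.mulVec_mulVec, s.2.2, (hsec p).2]
  let E : G ≃ P × S :=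
    { toFun := fun g => (img g, ⟨(sec (img g))⁻¹ * g, hS g⟩)
      invFun := fun x => sec x.1 * x.2.1
      left_inv := fun g => mul_inv_cancel_left _ _
      right_inv := fun x => by
        refine Prod.ext (himg x.1 x.2) (Subtype.ext ?_)
        change (sec (img (sec x.1 * x.2.1)))⁻¹ * (sec x.1 * x.2.1) = x.2.1
        rw [himg x.1 x.2, inv_mul_cancel_left] }
  let emb : Matrix.symplecticGroup (Fin n) F → S := fun y =>
    ⟨⟨CfsgLib.Symp.blockMat hb 1 y.1, CfsgLib.Symp.blockMat_mem hb (one_mem _) y.2⟩, by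
      constructor <;>
      · funext k
        obtain ⟨k', rfl⟩ := σ.surjective k
        simp only [he, he', Matrix.mulVec_single_one, Matrix.col_apply, CfsgLib.Symp.blockMat,
          ← hσ, Matrix.reindex_apply, Matrix.submatrix_apply, Equiv.symm_apply_apply]
        rcases k' with (k' | k') | (k' | k') <;> first
          | (fin_cases k'; simp)
          | simp⟩
  have hemb : Function.Bijective emb := by
    refine ⟨fun y y' h => Subtype.ext ((CfsgLib.Symp.blockMat_inj hb).1
      (congrArg (fun s : S => s.1.1) h)).2, fun ⟨g, hg1, hg2⟩ => ?_⟩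
    set M := g.1.submatrix σ σ with hM
    have hM11 : M.toBlocks₁₁ = 1 ∧ M.toBlocks₂₁ = 0 := by
      constructor <;> ext k l <;> rcases l with l | l <;>
        rw [Subsingleton.elim l 0]
      · have := congrFun hg2 (σ (.inl k))
        simpa [hM, he', Matrix.toBlocks₁₁, Matrix.one_apply, Pi.single_apply, σ.apply_eq_iff_eq] using this
      · have := congrFun hg1 (σ (.inl k))
        simpa [hM, he, Matrix.toBlocks₁₁, Matrix.one_apply, Pi.single_apply, σ.apply_eq_iff_eq] using this
      · have := congrFun hg2 (σ (.inr k))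
        simpa [hM, he', Matrix.toBlocks₂₁, Pi.single_apply, σ.apply_eq_iff_eq] using this
      · have := congrFun hg1 (σ (.inr k))
        simpa [hM, he, Matrix.toBlocks₂₁, Pi.single_apply, σ.apply_eq_iff_eq] using this
    have hM12 : M.toBlocks₁₂ = 0 := by
      ext k l
      rcases k with k | k <;> rw [Subsingleton.elim k 0]
      · have h := form_mulVec g (Pi.single (σ (.inr l)) 1) e
        rw [hg1, he, hσr, form_single_inr_right, form_single_inr_right, neg_inj] at h
        rw [← hσl, Pi.single_apply, if_neg (by simp)] at h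
        simpa [hM, Matrix.toBlocks₁₂, Matrix.mulVec_single_one] using h
      · have h := form_mulVec g (Pi.single (σ (.inr l)) 1) e'
        rw [hg2, he', hσl, form_single_inl_right, form_single_inl_right] at h
        rw [← hσr, Pi.single_apply, if_neg (by simp)] at h
        simpa [hM, Matrix.toBlocks₁₂, Matrix.mulVec_single_one] using h
    have hgB : g.1 = CfsgLib.Symp.blockMat hb 1 M.toBlocks₂₂ := by
      rw [CfsgLib.Symp.blockMat, ← hM11.1]
      have h0 : Matrix.fromBlocks M.toBlocks₁₁ 0 0 M.toBlocks₂₂ = M := by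
        conv_rhs => rw [← Matrix.fromBlocks_toBlocks M, hM12, hM11.2]
      rw [h0, hM, ← hσ]
      ext a b
      simp
    have hy : M.toBlocks₂₂ ∈ Matrix.symplecticGroup (Fin n) F := by
      have h := SymplecticGroup.mem_iff.1 g.2
      have hT : ∀ (x : Matrix (Fin 1 ⊕ Fin 1) (Fin 1 ⊕ Fin 1) F)
          (y : Matrix (Fin n ⊕ Fin n) (Fin n ⊕ Fin n) F),
          (CfsgLib.Symp.blockMat hb x y)ᵀ = CfsgLib.Symp.blockMat hb xᵀ yᵀ := fun x y => by
        simp [CfsgLib.Symp.blockMat, Matrix.fromBlocks_transpose, Matrix.transpose_submatrix]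
      rw [hgB, hT, show J (Fin (n + 1)) F =
        CfsgLib.Symp.blockMat hb (J (Fin 1) F) (J (Fin n) F) from (CfsgLib.Symp.J_block hb).symm,
        CfsgLib.Symp.blockMat_mul, CfsgLib.Symp.blockMat_mul, CfsgLib.Symp.blockMat_inj] at h
      exact SymplecticGroup.mem_iff.2 h.2
    exact ⟨⟨_, hy⟩, Subtype.ext (Subtype.ext hgB.symm)⟩
  rw [Nat.card_congr E, Nat.card_prod, ← Nat.card_congr (Equiv.ofBijective emb hemb)]
  rw [card_pairs n]

theorem card_Sp (m : ℕ) :
    Nat.card (Matrix.symplecticGroup (Fin m) F) =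
      Fintype.card F ^ (m ^ 2) * ∏ i ∈ Finset.range m, (Fintype.card F ^ (2 * (i + 1)) - 1) := by
  induction m with
  | zero => simp
  | succ n ih =>
    rw [card_step, ih, Finset.prod_range_succ, show (n + 1) ^ 2 = 2 * n + 1 + n ^ 2 by ring,
      pow_add (Fintype.card F) (2 * n + 1)]
    ring

end CfsgLib.SpGeom
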