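import Mathlib
import Cfsg.Agent.SpGeom.Order
import Cfsg.Prelude.Def_ClassicalGeometry
set_option autoImplicit false

/-!
Stabilisers of totally isotropic subspaces in `Sp_2m(q)`.
-/

namespace CfsgLib.SpGeom

open Matrix

variable {F : Type*} [Field F] {m : ℕ}

local notation "V" => (Fin m ⊕ Fin m → F)
local notation "Sp" => Matrix.symplecticGroup (Fin m) F
local notation "f" => Cfsg.sympForm m F
local notation "mat" A:max => ((A : Sp) : Matrix (Fin m ⊕ Fin m) (Fin m ⊕ Fin m) F)

/-- Independent, pairwise orthogonal tuples. -/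
def Frame (m k : ℕ) (F : Type*) [Field F] : Type _ :=
  {w : Fin k → (Fin m ⊕ Fin m → F) //
    LinearIndependent F w ∧ ∀ i j, Cfsg.sympForm m F (w i) (w j) = 0}

/-- The form against `u` as a linear functional. -/
def dualOf (u : V) : V →ₗ[F] F where
  toFun x := f x u
  map_add' a b := form_add_left a b u
  map_smul' c a := form_smul_left c a u

theorem exists_perp_sep {k : ℕ} {w : Fin k → V} {u : V}
    (hu : u ∉ Submodule.span F (Set.range w)) : ∃ x, (∀ i, f x (w i) = 0) ∧ f x u ≠ 0 := by
  by_contra h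
  push Not at h
  have hle : ⨅ i, LinearMap.ker (dualOf (w i)) ≤ LinearMap.ker (dualOf u) := fun x hx => by
    simp only [Submodule.mem_iInf, LinearMap.mem_ker] at hx
    exact LinearMap.mem_ker.2 (h x hx)
  obtain ⟨c, hc⟩ := (Submodule.mem_span_range_iff_exists_fun F).1
    (mem_span_of_iInf_ker_le_ker hle)
  apply hu
  rw [Submodule.mem_span_range_iff_exists_fun]
  refine ⟨c, ext_form fun x => ?_⟩
  have e : ∑ i, c i * f x (w i) = f x u := by
    simpa [dualOf, LinearMap.sum_apply] using LinearMap.congr_fun hc x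
  rw [← neg_inj, ← form_skew, ← form_skew, ← e]
  have : f x (∑ i, c i • w i) = ∑ i, c i * f x (w i) := by
    simp [Cfsg.sympForm, Matrix.mulVec_sum, dotProduct_sum, Matrix.mulVec_smul, dotProduct_smul]
  rw [this]

theorem exists_fix_move {k : ℕ} (w : Fin k → V) {u u' : V}
    (hu : u ∉ Submodule.span F (Set.range w)) (hu' : u' ∉ Submodule.span F (Set.range w))
    (hp : ∀ i, f u (w i) = 0) (hp' : ∀ i, f u' (w i) = 0) :
    ∃ A : Sp, (∀ i, mat A *ᵥ w i = w i) ∧ mat A *ᵥ u = u' := by
  have direct : ∀ a b : V, (∀ i, f a (w i) = 0) → (∀ i, f b (w i) = 0) → f a b ≠ 0 →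
      ∃ A : Sp, (∀ i, mat A *ᵥ w i = w i) ∧ mat A *ᵥ a = b := by
    intro a b ha hb hab
    refine ⟨tv (b - a) (f a b)⁻¹, fun i => tv_fix _ _ ?_, ?_⟩
    · rw [form_skew, form_sub_left, hb, ha, sub_zero, neg_zero]
    · rw [tv_mulVec, form_sub_right, form_self, sub_zero, inv_mul_cancel₀ hab, one_smul,
        add_sub_cancel]
  obtain ⟨a, ha, hau⟩ := exists_perp_sep hu
  obtain ⟨b, hb, hbu⟩ := exists_perp_sep hu'
  obtain ⟨z, hz, hzu, hzu'⟩ : ∃ z, (∀ i, f z (w i) = 0) ∧ f z u ≠ 0 ∧ f z u' ≠ 0 := by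
    by_cases h1 : f a u' = 0
    · by_cases h2 : f b u = 0
      · exact ⟨a + b, fun i => by rw [form_add_left, ha, hb, add_zero],
          by rw [form_add_left, h2, add_zero]; exact hau,
          by rw [form_add_left, h1, zero_add]; exact hbu⟩
      · exact ⟨b, hb, h2, hbu⟩
    · exact ⟨a, ha, hau, h1⟩
  obtain ⟨A, hA, hAu⟩ := direct u z hp hz (by rw [form_skew, neg_ne_zero]; exact hzu)
  obtain ⟨B, hB, hBz⟩ := direct z u' hz hp' hzu'
  exact ⟨B * A, fun i => by rw [coe_mul', ← Matrix.mulVec_mulVec, hA, hB],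
    by rw [coe_mul', ← Matrix.mulVec_mulVec, hAu, hBz]⟩

/-- `Sp` is transitive on frames. -/
theorem exists_move_frame : ∀ {k : ℕ} (w w' : Frame m k F),
    ∃ A : Sp, ∀ i, mat A *ᵥ w.1 i = w'.1 i := by
  intro k
  induction k with
  | zero => exact fun w w' => ⟨1, fun i => i.elim0⟩
  | succ k ih =>
    intro w w'
    obtain ⟨hl, ho⟩ := w.2
    obtain ⟨hl', ho'⟩ := w'.2
    rw [← Fin.snoc_init_self w.1, linearIndependent_finSnoc] at hl
    rw [← Fin.snoc_init_self w'.1, linearIndependent_finSnoc] at hl'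
    obtain ⟨A, hA⟩ := ih ⟨Fin.init w.1, hl.1, fun i j => ho _ _⟩
      ⟨Fin.init w'.1, hl'.1, fun i j => ho' _ _⟩
    set u := mat A *ᵥ w.1 (Fin.last k)
    have hA' : ∀ i, mat A *ᵥ w.1 (Fin.castSucc i) = w'.1 (Fin.castSucc i) := hA
    have hu : u ∉ Submodule.span F (Set.range (Fin.init w'.1)) := by
      intro h
      apply hl.2
      have h2 : mat A⁻¹ *ᵥ u ∈ (Submodule.span F (Set.range (Fin.init w'.1))).map
          (mat A⁻¹).mulVecLin := Submodule.mem_map_of_mem h
      rw [inv_mulVec, Submodule.map_span] at h2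
      refine Submodule.span_mono ?_ h2
      rintro _ ⟨_, ⟨i, rfl⟩, rfl⟩
      refine ⟨i, ?_⟩
      change w.1 (Fin.castSucc i) = mat A⁻¹ *ᵥ w'.1 (Fin.castSucc i)
      rw [← hA', inv_mulVec]
    obtain ⟨B, hB, hBu⟩ := exists_fix_move (Fin.init w'.1) hu hl'.2
      (fun i => by
        change f u (w'.1 (Fin.castSucc i)) = 0
        rw [← hA', form_mulVec]; exact ho _ _)
      (fun i => ho' _ _)
    refine ⟨B * A, fun i => ?_⟩
    rw [coe_mul', ← Matrix.mulVec_mulVec]
    refine Fin.lastCases hBu (fun i => ?_) i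
    rw [hA']
    exact hB i

variable [Fintype F]

instance frameFinite (k : ℕ) : Finite (Frame m k F) := by unfold Frame; infer_instance

theorem card_extensions {k : ℕ} (w : Frame m k F) :
    Nat.card {u : V // u ∉ Submodule.span F (Set.range w.1) ∧ ∀ i, f u (w.1 i) = 0} =
      Fintype.card F ^ (2 * m - k) - Fintype.card F ^ k := by
  classical
  obtain ⟨hl, ho⟩ := w.2
  let φ : V →ₗ[F] (Fin k → F) := LinearMap.pi fun i => dualOf (w.1 i)
  have hsurj : LinearMap.range φ = ⊤ := by
    by_contra hne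
    obtain ⟨g, hg0, hg⟩ := Submodule.exists_dual_map_eq_bot_of_lt_top
      (lt_top_iff_ne_top.2 hne) inferInstance
    apply hg0
    set c : Fin k → F := fun i => g (Pi.single i 1) with hc
    have hgc : ∀ y, g y = ∑ i, y i * c i := fun y => by
      conv_lhs => rw [pi_eq_sum_univ' y]
      simp [map_sum, hc]
    have hzero : ∀ x, f x (∑ i, c i • w.1 i) = 0 := fun x => by
      have : g (φ x) = 0 := by
        have h2 : g (φ x) ∈ (LinearMap.range φ).map g :=
          Submodule.mem_map.2 ⟨_, LinearMap.mem_range_self φ x, rfl⟩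
        rwa [hg, Submodule.mem_bot] at h2
      rw [hgc] at this
      refine Eq.trans ?_ this
      simp [Cfsg.sympForm, Matrix.mulVec_sum, dotProduct_sum, Matrix.mulVec_smul, dotProduct_smul,
        φ, dualOf, mul_comm]
    have hs : (∑ i, c i • w.1 i) = 0 := ext_form fun x => by
      rw [form_skew, hzero, neg_zero, form_zero_left]
    have hc0 := Fintype.linearIndependent_iff.1 hl c hs
    refine LinearMap.ext fun y => ?_
    rw [hgc]
    simp [hc0]
  have hker : Module.finrank F (LinearMap.ker φ) = 2 * m - k := by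
    have h := LinearMap.finrank_range_add_finrank_ker φ
    rw [hsurj, finrank_top, Module.finrank_fintype_fun_eq_card, Module.finrank_fintype_fun_eq_card,
      Fintype.card_fin, Fintype.card_sum, Fintype.card_fin] at h
    omega
  have hle : Submodule.span F (Set.range w.1) ≤ LinearMap.ker φ := by
    rw [Submodule.span_le]
    rintro _ ⟨i, rfl⟩
    exact LinearMap.mem_ker.2 (funext fun j => ho i j)
  have e1 : Nat.card (LinearMap.ker φ) = Fintype.card F ^ (2 * m - k) := by
    rw [Module.natCard_eq_pow_finrank (K := F), hker, Nat.card_eq_fintype_card]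
  have e2 : Nat.card (Submodule.span F (Set.range w.1)) = Fintype.card F ^ k := by
    rw [Module.natCard_eq_pow_finrank (K := F), finrank_span_eq_card hl, Fintype.card_fin,
      Nat.card_eq_fintype_card]
  have e3 : {u : V | u ∉ Submodule.span F (Set.range w.1) ∧ ∀ i, f u (w.1 i) = 0} =
      (LinearMap.ker φ : Set V) \ (Submodule.span F (Set.range w.1) : Set V) := by
    ext u
    simp only [Set.mem_ofPred_eq, Set.mem_sdiff, SetLike.mem_coe, LinearMap.mem_ker]
    exact ⟨fun h => ⟨funext h.2, h.1⟩, fun h => ⟨h.2, fun i => congrFun h.1 i⟩⟩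
  change Nat.card ({u : V | u ∉ Submodule.span F (Set.range w.1) ∧ ∀ i, f u (w.1 i) = 0} : Set V) = _
  rw [Nat.card_coe_set_eq, e3, Set.ncard_sdiff hle, ← e1, ← e2]
  rfl

theorem card_frame (k : ℕ) :
    Nat.card (Frame m k F) =
      ∏ i ∈ Finset.range k, (Fintype.card F ^ (2 * m - i) - Fintype.card F ^ i) := by
  classical
  induction k with
  | zero =>
    simp only [Finset.range_zero, Finset.prod_empty]
    rw [Nat.card_eq_one_iff_unique]
    exact ⟨⟨fun a b => Subtype.ext (funext fun i => i.elim0)⟩,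
      ⟨⟨fun i => i.elim0, linearIndependent_empty_type, fun i => i.elim0⟩⟩⟩
  | succ k ih =>
    let e : Frame m (k + 1) F ≃ Σ w : Frame m k F,
        {u : V // u ∉ Submodule.span F (Set.range w.1) ∧ ∀ i, f u (w.1 i) = 0} :=
      { toFun := fun w => ⟨⟨Fin.init w.1,
            (linearIndependent_finSnoc.1 ((Fin.snoc_init_self w.1).symm ▸ w.2.1)).1,
            fun i j => w.2.2 _ _⟩, ⟨w.1 (Fin.last k),
            (linearIndependent_finSnoc.1 ((Fin.snoc_init_self w.1).symm ▸ w.2.1)).2,
            fun i => w.2.2 _ _⟩⟩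
        invFun := fun p => ⟨Fin.snoc p.1.1 p.2.1,
          linearIndependent_finSnoc.2 ⟨p.1.2.1, p.2.2.1⟩, fun i j => by
            refine Fin.lastCases (Fin.lastCases ?_ (fun j => ?_) j)
              (fun i => Fin.lastCases ?_ (fun j => ?_) j) i <;>
              simp only [Fin.snoc_last, Fin.snoc_castSucc]
            · exact form_self _
            · exact p.2.2.2 j
            · rw [form_skew, p.2.2.2, neg_zero]
            · exact p.1.2.2 i j⟩
        left_inv := fun w => Subtype.ext (Fin.snoc_init_self w.1)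
        right_inv := fun p => by
          obtain ⟨⟨w, hw⟩, ⟨u, hu⟩⟩ := p
          exact Sigma.subtype_ext (Subtype.ext (Fin.init_snoc (α := fun _ => V) u w)) (by simp) }
    have : Fintype (Frame m k F) := Fintype.ofFinite _
    rw [Nat.card_congr e, Nat.card_sigma, Finset.sum_congr rfl (fun w _ => card_extensions w),
      Finset.sum_const, smul_eq_mul, Finset.card_univ, ← Nat.card_eq_fintype_card, ih,
      Finset.prod_range_succ]

omit [Fintype F] in
theorem card_stabilizer_frame {k : ℕ} (w : Frame m k F) :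
    Nat.card (Frame m k F) * Nat.card {A : Sp // ∀ i, mat A *ᵥ w.1 i = w.1 i} = Nat.card Sp := by
  classical
  choose sec hsec using fun p : Frame m k F => exists_move_frame w p
  let img : Sp → Frame m k F := fun A => ⟨fun i => mat A *ᵥ w.1 i,
    w.2.1.map' (mat A).mulVecLin (LinearMap.ker_eq_bot.2 fun a b h => by
      rw [← inv_mulVec A a, ← inv_mulVec A b]
      exact congrArg _ h), fun i j => by rw [form_mulVec]; exact w.2.2 i j⟩
  rw [← Nat.card_prod]
  refine (Nat.card_congr ?_).symm
  exact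
    { toFun := fun A => (img A, ⟨(sec (img A))⁻¹ * A, fun i => by
        rw [coe_mul', ← Matrix.mulVec_mulVec]
        conv_lhs => rw [show mat A *ᵥ w.1 i = mat (sec (img A)) *ᵥ w.1 i from (hsec (img A) i).symm]
        exact inv_mulVec _ _⟩)
      invFun := fun x => sec x.1 * x.2.1
      left_inv := fun A => mul_inv_cancel_left _ _
      right_inv := fun x => by
        have himg : img (sec x.1 * x.2.1) = x.1 := Subtype.ext (funext fun i => by
          change mat (sec x.1 * x.2.1) *ᵥ w.1 i = _
          rw [coe_mul', ← Matrix.mulVec_mulVec, x.2.2 i, hsec])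
        refine Prod.ext himg (Subtype.ext ?_)
        change (sec (img (sec x.1 * x.2.1)))⁻¹ * (sec x.1 * x.2.1) = x.2.1
        rw [himg, inv_mul_cancel_left] }

theorem card_stabilizing {k : ℕ} (hk : k ≤ m) (W : Submodule F V) (hWk : Module.finrank F W = k)
    (hW : ∀ u ∈ W, ∀ v ∈ W, f u v = 0) :
    Nat.card (Cfsg.stabilizing (Cfsg.spToMat m F) (W : Set V)) =
      Fintype.card F ^ (k * (k + 1) / 2 + 2 * k * (m - k)) *
        (Fintype.card F ^ ((m - k) ^ 2) *
          ∏ i ∈ Finset.range (m - k), (Fintype.card F ^ (2 * (i + 1)) - 1)) *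
        ∏ i : Fin k, (Fintype.card F ^ k - Fintype.card F ^ (i : ℕ)) := by
  classical
  set q := Fintype.card F with hqdef
  have hq : 2 ≤ q := Fintype.one_lt_card
  let b := Module.finBasisOfFinrankEq F W hWk
  let w : Frame m k F := ⟨fun i => (b i : V),
    b.linearIndependent.map' W.subtype W.ker_subtype, fun i j => hW _ (b i).2 _ (b j).2⟩
  have hspan : Submodule.span F (Set.range w.1) = W := by
    refine Submodule.eq_of_le_of_finrank_le (Submodule.span_le.2 ?_) ?_
    · rintro _ ⟨i, rfl⟩; exact (b i).2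
    · rw [finrank_span_eq_card w.2.1, Fintype.card_fin, hWk]
  -- bases of `W`
  let Bases := {v : Fin k → W // LinearIndependent F v}
  let toFrame : Bases → Frame m k F := fun v => ⟨fun i => (v.1 i : V),
    v.2.map' W.subtype W.ker_subtype, fun i j => hW _ (v.1 i).2 _ (v.1 j).2⟩
  choose sec hsec using fun v : Bases => exists_move_frame w (toFrame v)
  have hmaps : ∀ A : Sp, (∀ i, mat A *ᵥ w.1 i ∈ W) →
      A ∈ Cfsg.stabilizing (Cfsg.spToMat m F) (W : Set V) := by
    intro A hA
    have hle : W.map (mat A).mulVecLin = W := by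
      refine Submodule.eq_of_le_of_finrank_eq ?_ ?_
      · conv_lhs => rw [← hspan]
        rw [Submodule.map_span, Submodule.span_le]
        rintro _ ⟨_, ⟨i, rfl⟩, rfl⟩
        exact hA i
      · refine (LinearEquiv.finrank_eq (Submodule.equivMapOfInjective _ (fun a b h => ?_) W)).symm
        rw [← inv_mulVec A a, ← inv_mulVec A b]
        exact congrArg _ h
    intro v
    constructor
    · intro hv
      rw [← hle]
      exact Submodule.mem_map_of_mem hv
    · intro hv
      change mat A *ᵥ v ∈ W at hv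
      rw [← hle] at hv
      obtain ⟨v', hv', e⟩ := hv
      have : v' = v := by rw [← inv_mulVec A v', ← inv_mulVec A v]; exact congrArg _ e
      exact this ▸ hv'
  let img : Cfsg.stabilizing (Cfsg.spToMat m F) (W : Set V) → Bases := fun A =>
    ⟨fun i => ⟨mat A.1 *ᵥ w.1 i, (A.2 (w.1 i)).1 (b i).2⟩,
      LinearIndependent.of_comp W.subtype (w.2.1.map' (mat A.1).mulVecLin
        (LinearMap.ker_eq_bot.2 fun a c h => by
          rw [← inv_mulVec A.1 a, ← inv_mulVec A.1 c]; exact congrArg _ h))⟩
  have hE : Nat.card (Cfsg.stabilizing (Cfsg.spToMat m F) (W : Set V)) =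
      Nat.card Bases * Nat.card {A : Sp // ∀ i, mat A *ᵥ w.1 i = w.1 i} := by
    rw [← Nat.card_prod]
    refine Nat.card_congr ?_
    exact
      { toFun := fun A => (img A, ⟨(sec (img A))⁻¹ * A.1, fun i => by
          rw [coe_mul', ← Matrix.mulVec_mulVec]
          conv_lhs => rw [show mat A.1 *ᵥ w.1 i = mat (sec (img A)) *ᵥ w.1 i from
            (hsec (img A) i).symm]
          exact inv_mulVec _ _⟩)
        invFun := fun x => ⟨sec x.1 * x.2.1, hmaps _ fun i => by
          rw [coe_mul', ← Matrix.mulVec_mulVec, x.2.2 i, hsec]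
          exact (x.1.1 i).2⟩
        left_inv := fun A => Subtype.ext (mul_inv_cancel_left _ _)
        right_inv := fun x => by
          have himg : ∀ h, img ⟨sec x.1 * x.2.1, h⟩ = x.1 := fun h =>
            Subtype.ext (funext fun i => Subtype.ext (by
              change mat (sec x.1 * x.2.1) *ᵥ w.1 i = _
              rw [coe_mul', ← Matrix.mulVec_mulVec, x.2.2 i, hsec]))
          refine Prod.ext (himg _) (Subtype.ext ?_)
          change (sec (img ⟨sec x.1 * x.2.1, _⟩))⁻¹ * (sec x.1 * x.2.1) = x.2.1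
          rw [himg, inv_mul_cancel_left] }
  have hB : Nat.card Bases = ∏ i : Fin k, (q ^ k - q ^ (i : ℕ)) := by
    have := Fintype.ofFinite W
    rw [card_linearIndependent (K := F) (le_of_eq hWk.symm), hWk, hqdef]
  have hstab := card_stabilizer_frame w
  rw [card_frame, card_Sp] at hstab
  -- arithmetic
  have hP : ∀ i ∈ Finset.range k, q ^ (2 * m - i) - q ^ i = q ^ i * (q ^ (2 * (m - i)) - 1) := by
    intro i hi
    have := Finset.mem_range.1 hi
    rw [Nat.mul_sub, mul_one, ← pow_add, show i + 2 * (m - i) = 2 * m - i by omega]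
  rw [Finset.prod_congr rfl hP, Finset.prod_mul_distrib, Finset.prod_pow_eq_pow_sum,
    Finset.sum_range_id] at hstab
  have hexp : m ^ 2 = k * (k - 1) / 2 + (k * (k + 1) / 2 + 2 * k * (m - k) + (m - k) ^ 2) := by
    obtain ⟨d, rfl⟩ := Nat.exists_eq_add_of_le hk
    rw [Nat.add_sub_cancel_left]
    have h1 : k * (k - 1) / 2 + k * (k + 1) / 2 = k * k := by
      obtain ⟨r, hr⟩ := Nat.even_mul_succ_self k
      rcases k with - | j
      · simp
      · obtain ⟨r', hr'⟩ := Nat.even_mul_succ_self j
        simp only [Nat.add_sub_cancel]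
        have : (j + 1) * j = j * (j + 1) := mul_comm _ _
        have : (j + 1) * (j + 1) * 2 = (j + 1) * (j + 1 + 1) + j * (j + 1) := by ring
        omega
    nlinarith [h1]
  have hprod : ∏ i ∈ Finset.range m, (q ^ (2 * (i + 1)) - 1) =
      (∏ i ∈ Finset.range k, (q ^ (2 * (m - i)) - 1)) *
        ∏ i ∈ Finset.range (m - k), (q ^ (2 * (i + 1)) - 1) := by
    rw [← Finset.prod_range_reflect, ← Nat.add_sub_of_le hk, Finset.prod_range_add]
    simp only [Nat.add_sub_cancel_left]
    congr 1
    · refine Finset.prod_congr rfl fun i hi => ?_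
      have := Finset.mem_range.1 hi
      congr 3
      omega
    · rw [← Finset.prod_range_reflect]
      refine Finset.prod_congr rfl fun i hi => ?_
      have := Finset.mem_range.1 hi
      congr 3
      omega
  have hpos : 0 < q ^ (k * (k - 1) / 2) * ∏ i ∈ Finset.range k, (q ^ (2 * (m - i)) - 1) := by
    refine Nat.mul_pos (Nat.pow_pos (by omega)) (Finset.prod_pos fun i hi => ?_)
    have := Finset.mem_range.1 hi
    have := Nat.one_lt_pow (show 2 * (m - i) ≠ 0 by omega) (show 1 < q by omega)
    omega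
  have hS : Nat.card {A : Sp // ∀ i, mat A *ᵥ w.1 i = w.1 i} =
      q ^ (k * (k + 1) / 2 + 2 * k * (m - k)) *
        (q ^ ((m - k) ^ 2) * ∏ i ∈ Finset.range (m - k), (q ^ (2 * (i + 1)) - 1)) := by
    apply Nat.eq_of_mul_eq_mul_left hpos
    rw [hstab, hprod, hexp, pow_add, pow_add]
    ring
  rw [hE, hB, hS]
  ring

theorem card_borel (m : ℕ) :
    Nat.card ↥(⨅ k : Fin m, Cfsg.stabilizing (Cfsg.spToMat m F) {v : Fin m ⊕ Fin m → F |
      (∀ i : Fin m, (k : ℕ) < (i : ℕ) → v (Sum.inl i) = 0) ∧ ∀ i : Fin m, v (Sum.inr i) = 0}) =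
      Fintype.card F ^ (m ^ 2) * (Fintype.card F - 1) ^ m := by
  classical
  set G : Subgroup (Matrix.symplecticGroup (Fin m) F) :=
    ⨅ k : Fin m, Cfsg.stabilizing (Cfsg.spToMat m F) {v : Fin m ⊕ Fin m → F |
      (∀ i : Fin m, (k : ℕ) < (i : ℕ) → v (Sum.inl i) = 0) ∧ ∀ i : Fin m, v (Sum.inr i) = 0}
  let Dia := {p : Fin m × Fin m // p.1 < p.2}
  let Sym := {p : Fin m × Fin m // p.1 ≤ p.2}
  let upA : ((Fin m → Fˣ) × (Dia → F)) → Matrix (Fin m) (Fin m) F := fun x =>
    Matrix.of fun i j => if h : i < j then x.2 ⟨(i, j), h⟩ else if i = j then (x.1 i : F) else 0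
  let sym : (Sym → F) → Matrix (Fin m) (Fin m) F := fun s =>
    Matrix.of fun i j => if h : i ≤ j then s ⟨(i, j), h⟩ else s ⟨(j, i), (not_le.1 h).le⟩
  have hup : ∀ x, (upA x).BlockTriangular id := fun x i j hij => by
    change j < i at hij
    simp only [upA, Matrix.of_apply]
    rw [dif_neg (not_lt.2 (le_of_lt hij)), if_neg (ne_of_gt hij)]
  have hdet : ∀ x, IsUnit (upA x).det := fun x => by
    rw [Matrix.det_of_isUpperTriangular (hup x), isUnit_iff_ne_zero, Finset.prod_ne_zero_iff]
    intro i _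
    simp [upA]
  have hsym : ∀ s, (sym s)ᵀ = sym s := fun s => by
    ext i j
    simp only [sym, Matrix.transpose_apply, Matrix.of_apply]
    rcases lt_trichotomy i j with h | rfl | h
    · rw [dif_neg (not_le.2 h), dif_pos h.le]
    · rfl
    · rw [dif_pos h.le, dif_neg (not_le.2 h)]
  let mk : ((Fin m → Fˣ) × (Dia → F)) × (Sym → F) → Matrix (Fin m ⊕ Fin m) (Fin m ⊕ Fin m) F :=
    fun x => fromBlocks (upA x.1) (sym x.2 * (upA x.1)⁻¹ᵀ) 0 (upA x.1)⁻¹ᵀ
  have hmem : ∀ x, mk x ∈ Matrix.symplecticGroup (Fin m) F := fun x => by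
    rw [SymplecticGroup.mem_iff]
    have h1 := Matrix.mul_nonsing_inv _ (hdet x.1)
    have h2 := congrArg Matrix.transpose h1
    rw [Matrix.transpose_mul, Matrix.transpose_one] at h2
    simp only [mk, Matrix.J, Matrix.fromBlocks_transpose, Matrix.fromBlocks_multiply,
      Matrix.transpose_mul, Matrix.transpose_transpose, hsym, Matrix.transpose_zero]
    simp [Matrix.mul_assoc, h1, h2, ← Matrix.mul_assoc (upA x.1)]
  have hstab : ∀ (A : Matrix.symplecticGroup (Fin m) F),
      A ∈ G ↔ (∀ i j : Fin m, j < i → A.1 (.inl i) (.inl j) = 0) ∧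
        ∀ i j : Fin m, A.1 (.inr i) (.inl j) = 0 := by
    intro A
    constructor
    · intro hA
      have key : ∀ j : Fin m, (∀ i : Fin m, (j : ℕ) < (i : ℕ) → (A.1 *ᵥ Pi.single (.inl j) 1) (Sum.inl i) = 0) ∧
          ∀ i : Fin m, (A.1 *ᵥ Pi.single (.inl j) 1) (Sum.inr i) = 0 := fun j => by
        refine ((Subgroup.mem_iInf.1 hA j) (Pi.single (.inl j) 1)).1 ⟨fun i hi => ?_, fun i => ?_⟩
        · have : i ≠ j := fun e => by subst e; exact lt_irrefl _ hi
          simp [this]
        · simp
      exact ⟨fun i j hij => by simpa using (key j).1 i hij, fun i j => by simpa using (key j).2 i⟩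
    · rintro ⟨h1, h2⟩
      refine Subgroup.mem_iInf.2 fun k => ?_
      have hfin : Finite (Fin m ⊕ Fin m → F) := inferInstance
      intro v
      set S := {v : Fin m ⊕ Fin m → F |
        (∀ i : Fin m, (k : ℕ) < (i : ℕ) → v (Sum.inl i) = 0) ∧ ∀ i : Fin m, v (Sum.inr i) = 0}
      have hmaps : ∀ x ∈ S, A.1 *ᵥ x ∈ S := by
        rintro x ⟨hx1, hx2⟩
        refine ⟨fun i hi => ?_, fun i => ?_⟩
        · simp only [Matrix.mulVec, dotProduct, Fintype.sum_sum_type, hx2, mul_zero,
            Finset.sum_const_zero, add_zero]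
          refine Finset.sum_eq_zero fun j _ => ?_
          by_cases hj : (k : ℕ) < j
          · rw [hx1 j hj, mul_zero]
          · rw [h1 i j (lt_of_le_of_lt (not_lt.1 hj) hi), zero_mul]
        · simp only [Matrix.mulVec, dotProduct, Fintype.sum_sum_type, hx2, h2, mul_zero, zero_mul,
            Finset.sum_const_zero, add_zero]
      refine ⟨hmaps v, fun hv => ?_⟩
      have hinj : Function.Injective (fun x : S => (⟨A.1 *ᵥ x.1, hmaps x.1 x.2⟩ : S)) := fun a b h => by
        have h' := congrArg Subtype.val h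
        exact Subtype.ext (by rw [← inv_mulVec A a.1, ← inv_mulVec A b.1]; exact congrArg _ h')
      obtain ⟨y, hy⟩ := Finite.injective_iff_surjective.1 hinj ⟨_, hv⟩
      have h' : A.1 *ᵥ y.1 = A.1 *ᵥ v := congrArg Subtype.val hy
      have : y.1 = v := by rw [← inv_mulVec A y.1, ← inv_mulVec A v, h']
      exact this ▸ y.2
  let em : ((Fin m → Fˣ) × (Dia → F)) × (Sym → F) → G := fun x => ⟨⟨mk x, hmem x⟩, by
    rw [hstab]
    exact ⟨fun i j hij => hup x.1 hij, fun i j => rfl⟩⟩
  have hbij : Function.Bijective em := by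
    constructor
    · intro x y h
      have h' : mk x = mk y := congrArg (fun z : G => z.1.1) h
      obtain ⟨hA, hB, -, -⟩ := fromBlocks_inj.1 h'
      have hx : x.1 = y.1 := by
        refine Prod.ext (funext fun i => Units.ext ?_) (funext fun p => ?_)
        · simpa [upA] using congrFun₂ hA i i
        · simpa [upA, p.2] using congrFun₂ hA p.1.1 p.1.2
      refine Prod.ext hx (funext fun p => ?_)
      rw [← hx] at hB
      have hu : IsUnit ((upA x.1)⁻¹ᵀ).det := by
        rw [Matrix.det_transpose]; exact Matrix.isUnit_nonsing_inv_det _ (hdet x.1)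
      have hS := congrArg (fun M => M * ((upA x.1)⁻¹ᵀ)⁻¹) hB
      simp only [Matrix.mul_nonsing_inv_cancel_right _ _ hu] at hS
      have e := congrFun₂ hS p.1.1 p.1.2
      simp only [sym, Matrix.of_apply, dif_pos p.2] at e
      exact e
    · rintro ⟨A, hA⟩
      obtain ⟨h1, h2⟩ := (hstab A).1 hA
      set a := A.1.toBlocks₁₁
      set bb := A.1.toBlocks₁₂
      set dd := A.1.toBlocks₂₂
      have hA0 : A.1 = fromBlocks a bb 0 dd := by
        conv_lhs => rw [← fromBlocks_toBlocks A.1]
        have : A.1.toBlocks₂₁ = 0 := Matrix.ext fun i j => h2 i j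
        rw [this]
      have hJ := SymplecticGroup.mem_iff.1 A.2
      rw [hA0] at hJ
      simp [J, fromBlocks_transpose, fromBlocks_multiply, fromBlocks_inj] at hJ
      obtain ⟨e11, e12, e21⟩ : bb * aᵀ + -(a * bbᵀ) = 0 ∧ a * ddᵀ = 1 ∧ dd * aᵀ = 1 := by
        exact ⟨hJ.1, hJ.2.1, hJ.2.2⟩
      have hinv : a⁻¹ = ddᵀ := Matrix.inv_eq_right_inv e12
      have hau : IsUnit a.det := Matrix.isUnit_det_of_right_inverse e12
      have hatri : a.BlockTriangular id := fun i j hij => h1 i j hij
      have hd0 : ∀ i, a i i ≠ 0 := fun i => by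
        have := hau.ne_zero
        rw [Matrix.det_of_isUpperTriangular hatri, Finset.prod_ne_zero_iff] at this
        exact this i (Finset.mem_univ i)
      set S := bb * aᵀ with hS
      have hSs : Sᵀ = S := by
        rw [hS, Matrix.transpose_mul, Matrix.transpose_transpose]
        exact (add_neg_eq_zero.1 e11).symm
      refine ⟨((fun i => Units.mk0 _ (hd0 i), fun p => a p.1.1 p.1.2), fun p => S p.1.1 p.1.2),
        Subtype.ext (Subtype.ext ?_)⟩
      have e1 : upA (fun i => Units.mk0 _ (hd0 i), fun p => a p.1.1 p.1.2) = a := by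
        ext i j
        simp only [upA, Matrix.of_apply]
        split_ifs with h h'
        · rfl
        · subst h'; rfl
        · exact (h1 i j (lt_of_le_of_ne (not_lt.1 h) (Ne.symm h'))).symm
      have e2 : sym (fun p => S p.1.1 p.1.2) = S := by
        ext i j
        simp only [sym, Matrix.of_apply]
        split_ifs with h
        · rfl
        · exact congrFun₂ hSs i j
      change mk _ = A.1
      simp only [mk, e1, e2, hinv, Matrix.transpose_transpose, hA0]
      rw [show a.transpose = aᵀ from rfl] at *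
      have e21' : aᵀ * dd = 1 := by
        have := mul_eq_one_comm.1 e21
        exact this
      rw [hS, Matrix.mul_assoc, e21', Matrix.mul_one]
  rw [← Nat.card_congr (Equiv.ofBijective em hbij), Nat.card_prod, Nat.card_prod, Nat.card_fun,
    Nat.card_fun, Nat.card_fun, Nat.card_units, Nat.card_eq_fintype_card (α := F), Nat.card_fin,
    mul_assoc, ← pow_add, mul_comm]
  congr 2
  have hsum : Nat.card Dia + Nat.card Sym = Nat.card (Fin m × Fin m) := by
    rw [← Nat.card_sum]
    refine Nat.card_congr ((Equiv.sumCongr (Equiv.refl _) ?_).trans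
      (Equiv.sumCompl fun p : Fin m × Fin m => p.1 < p.2))
    exact ((Equiv.prodComm _ _).subtypeEquiv fun p => by simp [not_lt])
  rw [hsum, Nat.card_prod, Nat.card_fin, sq]

end CfsgLib.SpGeom
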